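import Cfsg.Agent.H389.R.RR
import Cfsg.Agent.H829.S3530.Ree
import Cfsg.Agent.H347.S3530.PslBasics
import Cfsg.Agent.H321.S3530.Types
import Cfsg.Agent.S1159

/-!
# S3530: sections of components isomorphic to `²G₂(q)` (helper86)

`IsK.isRee_of_section`: if a simple group of one of the admissible types involves `²G₂(q)`, it is `²G₂(q)`.
-/

set_option autoImplicit false

namespace Cfsg.Agent.H389.RSq

open Subgroup
open Cfsg.Agent.H389.JSq (Has)

universe u v w

variable {m : ℕ} {σ : Fin 5 → ℕ}

namespace SubG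

theorem congr {L : Type v} {L' : Type w} [Group L] [Group L'] (e : L ≃* L') (h : IsRee m L') : IsRee m L := by
  obtain ⟨h1, K, i1, i2, hc, ⟨e'⟩⟩ := h
  exact ⟨h1, K, i1, i2, hc, ⟨e.trans e'⟩⟩

theorem exists_nine {L : Type v} [Group L] (h : IsRee m L) : Has L 9 := by
  obtain ⟨h1, K, i1, i2, hc, ⟨e⟩⟩ := h
  obtain ⟨g, hg⟩ := (Cfsg.Agent.S1159.result h1 hc 9).2 (Or.inr (Or.inl (dvd_refl 9)))
  exact ⟨e.symm g, by rw [MulEquiv.orderOf_eq, hg]⟩

theorem three_pow_mod (m : ℕ) : 3 ^ (2 * m + 1) % 5 = 3 ∨ 3 ^ (2 * m + 1) % 5 = 2 := by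
  induction m with
  | zero => left; norm_num
  | succ m ih =>
    have h : 3 ^ (2 * (m + 1) + 1) = 9 * 3 ^ (2 * m + 1) := by ring
    rw [h]
    omega

theorem five_not_dvd (m : ℕ) : ¬ 5 ∣ reeCard m := by
  have h5 : Nat.Prime 5 := by norm_num
  unfold reeCard
  intro h
  have h0 := three_pow_mod m
  have h1 : 1 ≤ 3 ^ (2 * m + 1) := Nat.one_le_pow _ _ (by norm_num)
  generalize 3 ^ (2 * m + 1) = q at h h0 h1
  rcases h5.dvd_mul.1 h with h2 | h2
  · rcases h5.dvd_mul.1 h2 with h3 | h3
    · have h4 := h5.dvd_of_dvd_pow h3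
      omega
    · have h4 : (q ^ 3 + 1) % 5 = 0 := Nat.mod_eq_zero_of_dvd h3
      rw [Nat.add_mod, Nat.pow_mod] at h4
      rcases h0 with h0 | h0 <;> rw [h0] at h4 <;> norm_num at h4
  · omega

theorem finite_of_le {B : Type v} {Z : Type w} [Group B] [Finite B] [Group Z] (g : B →* Z) {R : Subgroup Z}
    (hg : R ≤ g.range) : Finite R := by
  have h1 : Finite g.range := Finite.of_surjective g.rangeRestrict g.rangeRestrict_surjective
  exact Finite.of_injective (inclusion hg) (inclusion_injective hg)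

end SubG

open SubG

/-- a section `²G₂(q)` of a component -/
theorem IsK.isRee_of_section {A : Type u} [Group A] [Finite A] (hA : IsK A) (hcl : Cl m A) (S : Sig m σ)
    (B : Subgroup A) {Z : Type u} [Group Z] (g : B →* Z) {R : Subgroup Z} (hR : IsRee m R) (hg : R ≤ g.range) :
    IsRee m A := by
  have hfin : Finite R := finite_of_le g hg
  have hfinr : Finite g.range := Finite.of_surjective g.rangeRestrict g.rangeRestrict_surjective
  have hcard : reeCard m ∣ Nat.card A := by
    rw [← hR.card]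
    exact ((card_dvd_of_le hg).trans (card_range_dvd g)).trans (card_subgroup_dvd_card B)
  have h9 : Has A 9 := by
    obtain ⟨x, hx⟩ := exists_nine hR
    have h1 : Has g.range 9 := ⟨⟨x, hg x.2⟩, by rw [← Subgroup.orderOf_coe, ← hx, ← Subgroup.orderOf_coe]⟩
    exact (h1.of_surjective g.rangeRestrict g.rangeRestrict_surjective).of_subgroup
  rcases hA with ⟨s, e, hL⟩ | ⟨m₁, hm₁⟩
  · exfalso
    by_cases hs : s = 3
    · subst hs
      obtain ⟨y, hy⟩ := h9
      have he : e ≠ 0 := by
        rintro rfl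
        exact absurd hL.odd (by decide)
      have h3 : 3 ∣ 3 ^ e := dvd_pow_self 3 he
      have h1 : 1 ≤ 3 ^ e := Nat.one_le_pow _ _ (by norm_num)
      have h := hL.psl.orderOf_dvd y
      rw [hy] at h
      rcases h with h | h | h
      · omega
      · have := (show (3 : ℕ) ∣ 9 by norm_num).trans h
        omega
      · have := (show (3 : ℕ) ∣ 9 by norm_num).trans h
        omega
    · -- the Sylow 3-subgroups are cyclic
      have hF : Fact (Nat.Prime 3) := ⟨Nat.prime_three⟩
      obtain ⟨P⟩ : Nonempty (Sylow 3 A) := inferInstance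
      have hP := hL.psl.isCyclic Nat.prime_three (by norm_num) (Or.inl (Ne.symm hs)) P.2
      obtain ⟨x, hx⟩ := hP.exists_ofOrder_eq_natCard
      have h27 : 3 ^ 3 ∣ Nat.card A := by
        refine Dvd.dvd.trans ?_ hcard
        unfold reeCard
        refine Dvd.dvd.mul_right (Dvd.dvd.mul_right ?_ _) _
        rw [← pow_mul]
        exact pow_dvd_pow 3 (by omega)
      have h1 : 3 ^ 3 ∣ Nat.card P := P.pow_dvd_card_of_pow_dvd_card h27
      refine hcl.nine (x : A) ?_
      rw [Subgroup.orderOf_coe, hx]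
      exact h1
  · by_cases hmm : m₁ = m
    · rwa [← hmm]
    · exfalso
      have h1 := S.ree m₁ hm₁.1 hmm (fun p hp hd => by
        rw [← hm₁.card] at hd
        have hF : Fact p.Prime := ⟨hp⟩
        obtain ⟨g, hg⟩ := exists_prime_orderOf_dvd_card' p hd
        exact hcl.prm g p hp (by rw [hg]))
      have h2 : (Finset.univ.filter fun i : Fin 5 => σ i ∣ reeCard m₁) = Finset.univ := by
        rw [Finset.filter_eq_self]
        intro i _
        rw [← hm₁.card]
        exact (S.dvd i).trans hcard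
      rw [h2, Finset.card_univ, Fintype.card_fin] at h1
      omega

end Cfsg.Agent.H389.RSq
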