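import Cfsg.Agent.H86.S3530.Sec
import Cfsg.Agent.H35.S3530.Core

/-!
# S3530: from a subgroup to the group (helper86)

`exists_RR`: if `M ≤ X` and `M/O(M)` is the configuration `RR m`, then so is `X/O(X)`.
-/

set_option autoImplicit false
set_option linter.unusedSectionVars false

namespace Cfsg.Agent.H389.RSq

open Subgroup
open scoped commutatorElement
open Cfsg.Agent.H389.JSq (Has)
open Cfsg.Agent.Walter
open Cfsg.Agent.SignalizersComponents
open Cfsg.Agent.SignalizersComponents.Components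
open Cfsg.Agent.H381.Tools

universe u v w

variable {m : ℕ} {σ : Fin 5 → ℕ}

namespace SubG

/-! ### the projection onto a component -/

section proj

variable {Z : Type u} [Group Z]

/-- the products of an element of `C` and an element of its centralizer -/
def CC (C : Subgroup Z) : Subgroup Z where
  carrier := {x | ∃ k ∈ C, k⁻¹ * x ∈ centralizer (C : Set Z)}
  mul_mem' := by
    rintro x y ⟨k, hk, hc⟩ ⟨l, hl, hd⟩
    refine ⟨k * l, mul_mem hk hl, ?_⟩
    have h1 : l⁻¹ * (k⁻¹ * x) = (k⁻¹ * x) * l⁻¹ := mem_centralizer_iff.1 hc l⁻¹ (inv_mem hl)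
    have h2 : (k * l)⁻¹ * (x * y) = (k⁻¹ * x) * (l⁻¹ * y) := by
      calc (k * l)⁻¹ * (x * y) = l⁻¹ * (k⁻¹ * x) * y := by group
        _ = (k⁻¹ * x) * (l⁻¹ * y) := by rw [h1]; group
    rw [h2]
    exact mul_mem hc hd
  one_mem' := ⟨1, one_mem _, by rw [inv_one, one_mul]; exact one_mem _⟩
  inv_mem' := by
    rintro x ⟨k, hk, hc⟩
    refine ⟨k⁻¹, inv_mem hk, ?_⟩
    have h1 : k * (k⁻¹ * x) = (k⁻¹ * x) * k := mem_centralizer_iff.1 hc k hk
    have h2 : k * x = x * k := by
      calc k * x = k * (k * (k⁻¹ * x)) := by group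
        _ = k * ((k⁻¹ * x) * k) := by rw [h1]
        _ = x * k := by group
    have h3 : k⁻¹⁻¹ * x⁻¹ = (k⁻¹ * x)⁻¹ := by
      calc k⁻¹⁻¹ * x⁻¹ = x⁻¹ * (x * k) * x⁻¹ := by group
        _ = x⁻¹ * (k * x) * x⁻¹ := by rw [h2]
        _ = (k⁻¹ * x)⁻¹ := by group
    rw [h3]
    exact inv_mem hc

variable {C : Subgroup Z}

theorem uniq (hC : C ⊓ centralizer (C : Set Z) = ⊥) {x k l : Z} (hk : k ∈ C) (hl : l ∈ C)
    (h1 : k⁻¹ * x ∈ centralizer (C : Set Z)) (h2 : l⁻¹ * x ∈ centralizer (C : Set Z)) : k = l := by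
  have h3 : l⁻¹ * k ∈ C ⊓ centralizer (C : Set Z) := by
    refine ⟨C.mul_mem (C.inv_mem hl) hk, ?_⟩
    have : l⁻¹ * k = (l⁻¹ * x) * (k⁻¹ * x)⁻¹ := by group
    rw [this]
    exact (centralizer (C : Set Z)).mul_mem h2 ((centralizer (C : Set Z)).inv_mem h1)
  rw [hC, mem_bot] at h3
  exact (inv_mul_eq_one.1 h3).symm

theorem exists_proj (hC : C ⊓ centralizer (C : Set Z) = ⊥) :
    ∃ π : CC C →* C, ∀ x : CC C, ((π x : Z))⁻¹ * x ∈ centralizer (C : Set Z) := by
  have h : ∀ x : CC C, ∃ k : C, (k : Z)⁻¹ * x ∈ centralizer (C : Set Z) := by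
    rintro ⟨x, k, hk, hc⟩
    exact ⟨⟨k, hk⟩, hc⟩
  choose π hπ using h
  refine ⟨MonoidHom.mk' π fun x y => Subtype.ext ?_, hπ⟩
  apply uniq hC (x := ((x * y : CC C) : Z)) (π (x * y)).2 (mul_mem (π x).2 (π y).2) (hπ (x * y))
  have h1 : (π y : Z)⁻¹ * ((π x : Z)⁻¹ * x) = ((π x : Z)⁻¹ * x) * (π y : Z)⁻¹ :=
    mem_centralizer_iff.1 (hπ x) _ (inv_mem (π y).2)
  have h2 : ((π x : Z) * (π y : Z))⁻¹ * ((x * y : CC C) : Z) = ((π x : Z)⁻¹ * x) * ((π y : Z)⁻¹ * y) := by
    calc ((π x : Z) * (π y : Z))⁻¹ * ((x : Z) * y) = (π y : Z)⁻¹ * ((π x : Z)⁻¹ * x) * y := by group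
      _ = _ := by rw [h1]; group
  rw [h2]
  exact mul_mem (hπ x) (hπ y)

/-- the homomorphism to a component -/
theorem exists_hom (hC : C ⊓ centralizer (C : Set Z) = ⊥) {D : Type v} [Group D] (φ : D →* Z)
    (hφ : ∀ x, φ x ∈ CC C) : ∃ ψ : D →* C, ψ.ker = (centralizer (C : Set Z)).comap φ := by
  obtain ⟨π, hπ⟩ := exists_proj hC
  refine ⟨π.comp (φ.codRestrict (CC C) hφ), ?_⟩
  ext x
  rw [MonoidHom.mem_ker, mem_comap, MonoidHom.comp_apply]
  have h1 := hπ (φ.codRestrict (CC C) hφ x)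
  constructor
  · intro h2
    rw [h2, OneMemClass.coe_one, inv_one, one_mul] at h1
    exact h1
  · intro h2
    apply Subtype.ext
    apply uniq hC (x := φ x) (SetLike.coe_mem _) (one_mem _) h1
    rw [inv_one, one_mul]
    exact h2

end proj

/-! ### components -/

section comp

variable {Z : Type u} [Group Z] [Finite Z]

theorem comm_of_ne {C C' : Subgroup Z} (hC : Cfsg.IsComponent C) (hC' : Cfsg.IsComponent C') (h : C ≠ C') :
    C ≤ centralizer (C' : Set Z) := by
  have h1 := Cfsg.Agent.S1270.component_comm_of_ne hC hC' h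
  rwa [commutator_eq_bot_iff_le_centralizer] at h1

/-- `F*(Z) ≤ C C(C)` -/
theorem genFitting_le (hO : Cfsg.pPrimeCore 2 Z = ⊥) {C : Subgroup Z} (hC : Cfsg.IsComponent C) :
    Cfsg.generalizedFittingSubgroup Z ≤ CC C := by
  have hcen : centralizer (C : Set Z) ≤ CC C := fun x hx => ⟨1, one_mem _, by rw [inv_one, one_mul]; exact hx⟩
  rw [AbStruct.genFitting_eq hO]
  refine sup_le ?_ ?_
  · refine (AbStruct.pCore_le_centralizer_layer hO).trans ((centralizer_le ?_).trans hcen)
    exact component_le_layer hC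
  · rw [layer_le_iff]
    intro C' hC'
    by_cases h : C' = C
    · subst h
      exact fun x hx => ⟨x, hx, by rw [inv_mul_cancel]; exact one_mem _⟩
    · exact (comm_of_ne hC' hC h).trans hcen

theorem isK_component (hO : Cfsg.pPrimeCore 2 Z = ⊥) (hcl : Cl m Z) {C : Subgroup Z} (hC : Cfsg.IsComponent C) :
    IsK C := by
  obtain ⟨S⟩ : Nonempty (Sylow 2 Z) := inferInstance
  have hs := AbStruct.isSimpleGroup hO (S := S) (hcl.sylow_comm S.2) hC
  have hclC := hcl.subgroup C
  refine isK_of_simple (m := m) (AbStruct.not_comm hC) hclC.four ?_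
  intro h5
  have hF : Fact (Nat.Prime 5) := ⟨by norm_num⟩
  obtain ⟨g, hg⟩ := exists_prime_orderOf_dvd_card' 5 h5
  exact five_not_dvd m (hclC.prm g 5 (by norm_num) (by rw [hg]))

end comp

/-! ### the sections -/

section sec

variable {Z : Type u} [Group Z] [Finite Z] {Y : Type u} [Group Y] [Finite Y] {D : Type u} [Group D] [Finite D]
  {φ : D →* Z} {g : D →* Y} {K L : Subgroup Y}

/-- a subgroup of `Y` meeting the image of `C(C)` trivially is a section of `C` -/
theorem exists_section {C : Subgroup Z} {ψ : D →* C} (hψ : ψ.ker = (centralizer (C : Set Z)).comap φ)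
    {H : Subgroup Y} (hH : H ≤ g.range) (h : H ⊓ ((centralizer (C : Set Z)).comap φ).map g = ⊥) :
    ∃ (B : Subgroup C) (W : Type u) (_ : Group W) (g' : B →* W) (ι : H →* W),
      Function.Injective ι ∧ Function.Surjective g' := by
  have hrs := g.rangeRestrict_surjective
  set N1 : Subgroup g.range := ψ.ker.map g.rangeRestrict with hN1
  have hn : N1.Normal := Subgroup.Normal.map inferInstance _ hrs
  obtain ⟨l, hl⟩ : ∃ l : D →* g.range ⧸ N1, l = (QuotientGroup.mk' N1).comp g.rangeRestrict := ⟨_, rfl⟩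
  have hls : Function.Surjective l := by
    rw [hl]; exact (QuotientGroup.mk'_surjective N1).comp hrs
  have hlk : ψ.rangeRestrict.ker ≤ l.ker := by
    intro x hx
    rw [MonoidHom.mem_ker] at hx
    have h1 : ψ x = 1 := congrArg Subtype.val hx
    rw [MonoidHom.mem_ker, hl, MonoidHom.comp_apply]
    exact (QuotientGroup.eq_one_iff _).2 ⟨x, h1, rfl⟩
  refine ⟨ψ.range, g.range ⧸ N1, inferInstance,
    (ψ.rangeRestrict).liftOfSurjective ψ.rangeRestrict_surjective ⟨l, hlk⟩,
    (QuotientGroup.mk' N1).comp (inclusion hH), ?_, ?_⟩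
  · rw [injective_iff_map_eq_one]
    intro y hy
    have h1 : inclusion hH y ∈ N1 := (QuotientGroup.eq_one_iff _).1 hy
    obtain ⟨x, hx, hxy⟩ := h1
    have h2 : g x = y := congrArg Subtype.val hxy
    have h3 : (y : Y) ∈ H ⊓ ((centralizer (C : Set Z)).comap φ).map g := ⟨y.2, x, by rw [← hψ]; exact hx, h2⟩
    rw [h, mem_bot] at h3
    exact Subtype.ext h3
  · intro y
    obtain ⟨x, rfl⟩ := hls y
    exact ⟨ψ.rangeRestrict x, MonoidHom.liftOfRightInverse_comp_apply _ _ _ _ _⟩

/-- some component is seen by `K` -/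
theorem exists_comp (hO : Cfsg.pPrimeCore 2 Z = ⊥) (hcl : Cl m Z) (hker : φ.ker ≤ g.ker)
    (hF : ∀ x, φ x ∈ Cfsg.generalizedFittingSubgroup Z) (hKg : K ≤ g.range) (hKp : ⁅K, K⁆ = K)
    (h3 : 3 ∣ Nat.card K) :
    ∃ C : Subgroup Z, Cfsg.IsComponent C ∧ ¬ K ≤ ((centralizer (C : Set Z)).comap φ).map g := by
  classical
  have hfact : Fact (Nat.Prime 3) := ⟨Nat.prime_three⟩
  obtain ⟨S⟩ : Nonempty (Sylow 2 Z) := inferInstance
  have hS := hcl.sylow_comm S.2
  by_contra hcon
  push Not at hcon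
  have hnorm : ∀ C : Subgroup Z, Cfsg.IsComponent C → ((centralizer (C : Set Z)).comap φ).Normal := by
    intro C hC
    obtain ⟨ψ, hψ⟩ := exists_hom (AbStruct.inf_centralizer hO hS hC) φ (fun x => genFitting_le hO hC (hF x))
    rw [← hψ]
    infer_instance
  have key : ∀ I : Finset {C : Subgroup Z // Cfsg.IsComponent C},
      K ≤ (⨅ C ∈ I, (centralizer (C.1 : Set Z)).comap φ).map g ∧
        (⨅ C ∈ I, (centralizer (C.1 : Set Z)).comap φ).Normal := by
    intro I
    induction I using Finset.induction_on with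
    | empty =>
      simp only [Finset.notMem_empty, iInf_false, iInf_top]
      exact ⟨by rwa [← MonoidHom.range_eq_map], inferInstance⟩
    | insert C I hCI ih =>
      rw [Finset.iInf_insert]
      have hn1 := hnorm C.1 C.2
      have hn2 := ih.2
      refine ⟨?_, inferInstance⟩
      calc K = ⁅K, K⁆ := hKp.symm
        _ ≤ ⁅((centralizer (C.1 : Set Z)).comap φ).map g, (⨅ C ∈ I, (centralizer (C.1 : Set Z)).comap φ).map g⁆ :=
          commutator_mono (hcon C.1 C.2) ih.1
        _ = ⁅(centralizer (C.1 : Set Z)).comap φ, ⨅ C ∈ I, (centralizer (C.1 : Set Z)).comap φ⁆.map g := by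
          rw [map_commutator]
        _ ≤ _ := map_mono (commutator_le_inf _ _)
  have hfin : Finite {C : Subgroup Z // Cfsg.IsComponent C} := inferInstance
  have : Fintype {C : Subgroup Z // Cfsg.IsComponent C} := Fintype.ofFinite _
  obtain ⟨h1, -⟩ := key Finset.univ
  obtain ⟨⟨k, hk⟩, hk3⟩ := exists_prime_orderOf_dvd_card' 3 h3
  rw [← Subgroup.orderOf_coe] at hk3
  obtain ⟨x, hx, rfl⟩ := h1 hk
  simp only [Finset.mem_univ, iInf_pos] at hx
  have hx1 : φ x ∈ centralizer (Cfsg.layer Z : Set Z) := by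
    have h2 : Cfsg.layer Z ≤ centralizer ({φ x} : Set Z) := by
      rw [layer_le_iff]
      intro C hC y hy
      rw [mem_centralizer_singleton_iff]
      have h3 : x ∈ (centralizer (C : Set Z)).comap φ := (mem_iInf.1 hx) ⟨C, hC⟩
      exact mem_centralizer_iff.1 h3 y hy
    rw [mem_centralizer_iff]
    intro y hy
    exact mem_centralizer_singleton_iff.1 (h2 hy)
  have hx2 : φ x ∈ Cfsg.pCore 2 Z := by
    have h2 : φ x ∈ centralizer (Cfsg.generalizedFittingSubgroup Z : Set Z) := by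
      have h4 := hF x
      rw [AbStruct.genFitting_eq hO] at h4 ⊢
      have h5 : Cfsg.pCore 2 Z ≤ centralizer (Cfsg.pCore 2 Z : Set Z) := by
        intro a ha
        rw [mem_centralizer_iff]
        intro b hb
        exact hS b (Lib.Cores.pCore_le_sylow S hb) a (Lib.Cores.pCore_le_sylow S ha)
      have h6 : Cfsg.layer Z ≤ centralizer (Cfsg.pCore 2 Z : Set Z) :=
        le_centralizer_iff.1 (AbStruct.pCore_le_centralizer_layer hO)
      have h7 : φ x ∈ centralizer (Cfsg.pCore 2 Z : Set Z) := sup_le h5 h6 h4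
      have h8 : Cfsg.pCore 2 Z ⊔ Cfsg.layer Z ≤ centralizer ({φ x} : Set Z) := by
        refine sup_le ?_ ?_
        · intro y hy
          rw [mem_centralizer_singleton_iff]
          exact mem_centralizer_iff.1 h7 y hy
        · intro y hy
          rw [mem_centralizer_singleton_iff]
          exact mem_centralizer_iff.1 hx1 y hy
      rw [mem_centralizer_iff]
      intro y hy
      exact mem_centralizer_singleton_iff.1 (h8 hy)
    have h3 := TwoFusion.FStarControl.centralizer_genFitting_le_fitting h2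
    rwa [BalanceAux.fitting_eq_pCore 2 hO] at h3
  obtain ⟨j, hj⟩ := Lib.Cores.pCore_isPGroup (G := Z) 2 ⟨φ x, hx2⟩
  have hj' : φ x ^ 2 ^ j = 1 := congrArg Subtype.val hj
  have hj2 : x ^ 2 ^ j ∈ φ.ker := by rw [MonoidHom.mem_ker, map_pow, hj']
  have hj3 := hker hj2
  rw [MonoidHom.mem_ker, map_pow] at hj3
  have hj4 := orderOf_dvd_of_pow_eq_one hj3
  rw [hk3] at hj4
  have := (Nat.prime_dvd_prime_iff_eq Nat.prime_three Nat.prime_two).1 (Nat.prime_three.dvd_of_dvd_pow hj4)
  omega

/-- `K` is simple -/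
theorem inf_eq_bot {C : Subgroup Z} (hN : ((centralizer (C : Set Z)).comap φ).Normal) (hKs : IsSimpleGroup K)
    (hKg : K ≤ g.range) (h : ¬ K ≤ ((centralizer (C : Set Z)).comap φ).map g) :
    K ⊓ ((centralizer (C : Set Z)).comap φ).map g = ⊥ := by
  set N := (centralizer (C : Set Z)).comap φ with hNd
  have hn : ((N.map g).subgroupOf K).Normal := by
    refine ⟨fun n hn k => ?_⟩
    rw [mem_subgroupOf] at hn ⊢
    obtain ⟨x, hx, hxn⟩ := hn
    obtain ⟨d, hd⟩ := hKg k.2
    refine ⟨d * x * d⁻¹, hN.conj_mem x hx d, ?_⟩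
    rw [map_mul, map_mul, map_inv, hd, hxn]
    rfl
  rcases hKs.eq_bot_or_eq_top_of_normal _ hn with h1 | h1
  · rw [subgroupOf_eq_bot, disjoint_iff] at h1
    rw [inf_comm]
    exact h1
  · rw [subgroupOf_eq_top] at h1
    exact absurd h1 h

theorem isRee_of (hO : Cfsg.pPrimeCore 2 Z = ⊥) (hcl : Cl m Z) (S : Sig m σ)
    (hF : ∀ x, φ x ∈ Cfsg.generalizedFittingSubgroup Z) {C : Subgroup Z} (hC : Cfsg.IsComponent C)
    (hK : IsRee m K) (hKg : K ≤ g.range) (h : K ⊓ ((centralizer (C : Set Z)).comap φ).map g = ⊥) : IsRee m C := by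
  obtain ⟨T⟩ : Nonempty (Sylow 2 Z) := inferInstance
  have hT := hcl.sylow_comm T.2
  obtain ⟨ψ, hψ⟩ := exists_hom (AbStruct.inf_centralizer hO hT hC) φ (fun x => genFitting_le hO hC (hF x))
  obtain ⟨B, W, iW, g', ι, hι, hg'⟩ := exists_section hψ hKg h
  refine IsK.isRee_of_section (isK_component hO hcl hC) (hcl.subgroup C) S B g' (R := ι.range)
    (SubG.congr (MonoidHom.ofInjective hι).symm hK) ?_
  rw [MonoidHom.range_eq_top.2 hg']
  exact le_top

theorem one_lt_reeCard (S : Sig m σ) : 1 < reeCard m := by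
  have h1 := S.dvd 0
  have h2 := (S.prime 0).one_lt
  have h3 : reeCard m ≠ 0 := by
    unfold reeCard
    have h4 : 3 ≤ 3 ^ (2 * m + 1) := by
      calc 3 = 3 ^ 1 := (pow_one 3).symm
        _ ≤ 3 ^ (2 * m + 1) := Nat.pow_le_pow_right (by norm_num) (by omega)
    have h5 : 0 < 3 ^ (2 * m + 1) - 1 := by omega
    positivity
  exact lt_of_lt_of_le h2 (Nat.le_of_dvd (Nat.pos_of_ne_zero h3) h1)

/-- **two components** -/
theorem exists_two (hO : Cfsg.pPrimeCore 2 Z = ⊥) (hcl : Cl m Z) (S : Sig m σ) (hker : φ.ker ≤ g.ker)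
    (hF : ∀ x, φ x ∈ Cfsg.generalizedFittingSubgroup Z) (h : RR m Y K L) (hKg : K ≤ g.range) (hLg : L ≤ g.range) :
    ∃ C C' : Subgroup Z, Cfsg.IsComponent C ∧ Cfsg.IsComponent C' ∧ C ≠ C' ∧ IsRee m C ∧ IsRee m C' := by
  obtain ⟨T⟩ : Nonempty (Sylow 2 Z) := inferInstance
  have hT := hcl.sylow_comm T.2
  have hhom := fun (C : Subgroup Z) (hC : Cfsg.IsComponent C) =>
    exists_hom (AbStruct.inf_centralizer hO hT hC) φ (fun x => genFitting_le hO hC (hF x))
  have hnorm : ∀ C : Subgroup Z, Cfsg.IsComponent C → ((centralizer (C : Set Z)).comap φ).Normal := by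
    intro C hC
    obtain ⟨ψ, hψ⟩ := hhom C hC
    rw [← hψ]
    infer_instance
  have hperf : ∀ {K : Subgroup Y}, IsRee m K → ⁅K, K⁆ = K := by
    intro K hK
    have h1 := congrArg (Subgroup.map K.subtype) hK.perfect
    rwa [map_commutator, ← MonoidHom.range_eq_map, range_subtype] at h1
  have h3 : ∀ {K : Subgroup Y}, IsRee m K → 3 ∣ Nat.card K := by
    intro K hK
    rw [hK.card, ← S.zero]
    exact S.dvd 0
  have hKs := h.reeK.simple
  have hLs := h.reeL.simple
  obtain ⟨C, hC, hCK⟩ := exists_comp hO hcl hker hF hKg (hperf h.reeK) (h3 h.reeK)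
  obtain ⟨C', hC', hCL⟩ := exists_comp hO hcl hker hF hLg (hperf h.reeL) (h3 h.reeL)
  by_cases h1 : L ≤ ((centralizer (C : Set Z)).comap φ).map g
  · -- `C` does not see `L`
    have hne : C ≠ C' := by
      rintro rfl
      exact hCL h1
    exact ⟨C, C', hC, hC', hne, isRee_of hO hcl S hF hC h.reeK hKg (inf_eq_bot (hnorm C hC) hKs hKg hCK),
      isRee_of hO hcl S hF hC' h.reeL hLg (inf_eq_bot (hnorm C' hC') hLs hLg hCL)⟩
  · -- `C` sees both: `K L` is a section of `C`
    exfalso
    have e1 := inf_eq_bot (hnorm C hC) hKs hKg hCK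
    have e2 := inf_eq_bot (hnorm C hC) hLs hLg h1
    have hree := isRee_of hO hcl S hF hC h.reeK hKg e1
    have hn := hnorm C hC
    set N := (centralizer (C : Set Z)).comap φ with hNd
    have e3 : (K ⊔ L) ⊓ N.map g = ⊥ := by
      rw [eq_bot_iff, ← h.cent]
      rintro x ⟨hx1, hx2⟩
      obtain ⟨y, hy, rfl⟩ := hx2
      have hcm : ∀ {K' : Subgroup Y}, K'.Normal → K' ≤ g.range → K' ⊓ N.map g = ⊥ → ∀ k ∈ K', k * g y = g y * k := by
        intro K' hK' hKg' he k hk
        obtain ⟨d, rfl⟩ := hKg' hk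
        have h5 : g d * g y * (g d)⁻¹ * (g y)⁻¹ ∈ K' ⊓ N.map g := by
          constructor
          · have := hK'.conj_mem _ (K'.inv_mem hk) (g y)
            have h6 : g d * g y * (g d)⁻¹ * (g y)⁻¹ = g d * (g y * (g d)⁻¹ * (g y)⁻¹) := by group
            rw [h6]
            exact K'.mul_mem hk this
          · refine ⟨d * y * d⁻¹ * y⁻¹, N.mul_mem (hn.conj_mem y hy d) (N.inv_mem hy), ?_⟩
            simp only [map_mul, map_inv]
        rw [he, mem_bot] at h5
        exact mul_inv_eq_iff_eq_mul.1 (mul_inv_eq_one.1 h5)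
      have h5 : K ⊔ L ≤ centralizer ({g y} : Set Y) := by
        refine sup_le ?_ ?_
        · intro k hk
          rw [mem_centralizer_singleton_iff]
          exact hcm h.normalK hKg e1 k hk
        · intro k hk
          rw [mem_centralizer_singleton_iff]
          exact hcm h.normalL hLg e2 k hk
      rw [mem_centralizer_iff]
      intro k hk
      exact mem_centralizer_singleton_iff.1 (h5 hk)
    obtain ⟨ψ, hψ⟩ := hhom C hC
    obtain ⟨B, W, iW, g', ι, hι, hg'⟩ := exists_section hψ (sup_le hKg hLg) e3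
    have hfW : Finite W := Finite.of_surjective g' hg'
    have d1 : Nat.card (K ⊔ L : Subgroup Y) ∣ Nat.card C :=
      ((card_dvd_of_injective ι hι).trans (card_dvd_of_surjective g' hg')).trans (card_subgroup_dvd_card B)
    have d2 : Nat.card K * Nat.card L = Nat.card (K ⊔ L : Subgroup Y) := by
      have hKn := h.normalK
      rw [← Subgroup.card_mul_index (K.subgroupOf (K ⊔ L)), Nat.card_congr (subgroupOfEquivOfLe le_sup_left).toEquiv]
      congr 1
      have h6 : (K.subgroupOf (K ⊔ L)).index = K.relIndex L := by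
        have h7 : (K.subgroupOf (K ⊔ L)).index = K.relIndex (K ⊔ L) := rfl
        rw [h7, relIndex_sup_left]
      rw [h6, ← inf_relIndex_right, h.inf, relIndex_bot_left]
    rw [hree.card, ← d2, h.reeK.card, h.reeL.card] at d1
    have h7 := one_lt_reeCard S
    have h8 := Nat.le_of_dvd (by omega) d1
    nlinarith

end sec

/-! ### the structure of `Z` -/

section str

variable {Z : Type u} [Group Z] [Finite Z]

theorem exists_order (S : Sig m σ) {C : Subgroup Z} (hC : IsRee m C) (i : Fin 5) : ∃ x ∈ C, orderOf x = σ i := by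
  have hF : Fact (σ i).Prime := ⟨S.prime i⟩
  obtain ⟨x, hx⟩ := exists_prime_orderOf_dvd_card' (σ i) (by rw [hC.card]; exact S.dvd i)
  exact ⟨x, x.2, by rw [Subgroup.orderOf_coe, hx]⟩

theorem rr_of_two (hO : Cfsg.pPrimeCore 2 Z = ⊥) (hcl : Cl m Z) (S : Sig m σ) {C C' : Subgroup Z}
    (hC : Cfsg.IsComponent C) (hC' : Cfsg.IsComponent C') (hne : C ≠ C') (hR : IsRee m C) (hR' : IsRee m C') :
    RR m Z C C' := by
  obtain ⟨T⟩ : Nonempty (Sylow 2 Z) := inferInstance
  have hT := hcl.sylow_comm T.2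
  have h2 : Fact (Nat.Prime 2) := ⟨Nat.prime_two⟩
  -- no other component
  have hall : ∀ C'' : Subgroup Z, Cfsg.IsComponent C'' → C'' = C ∨ C'' = C' := by
    intro C'' hC''
    by_contra hcon
    push Not at hcon
    have h3 : 3 ∣ Nat.card C'' := by
      rcases isK_component hO hcl hC'' with ⟨s, e, h⟩ | ⟨m₁, h⟩
      · exact h.three_dvd
      · rw [h.card]
        unfold reeCard
        exact Dvd.dvd.mul_right (Dvd.dvd.mul_right (dvd_pow (dvd_pow_self 3 (by omega)) (by norm_num)) _) _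
    have hF : Fact (Nat.Prime 3) := ⟨Nat.prime_three⟩
    obtain ⟨⟨z, hz⟩, hz3⟩ := exists_prime_orderOf_dvd_card' 3 h3
    rw [← Subgroup.orderOf_coe] at hz3
    obtain ⟨x, hx, hxo⟩ := exists_order S hR 1
    obtain ⟨y, hy, hyo⟩ := exists_order S hR' 2
    have hz3' : orderOf z = σ 0 := by rw [S.zero]; exact hz3
    refine hcl.no_comm (S.tri (i := 0) (j := 1) (l := 2) (by decide) (by decide) (by decide)) hz3' hxo hyo ?_ ?_ ?_
    · exact (mem_centralizer_iff.1 (comm_of_ne hC'' hC hcon.1 hz) x hx).symm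
    · exact (mem_centralizer_iff.1 (comm_of_ne hC'' hC' hcon.2 hz) y hy).symm
    · exact (mem_centralizer_iff.1 (comm_of_ne hC hC' hne hx) y hy).symm
  have hlayer : Cfsg.layer Z = C ⊔ C' := by
    apply le_antisymm
    · rw [layer_le_iff]
      intro C'' hC''
      rcases hall C'' hC'' with rfl | rfl
      · exact le_sup_left
      · exact le_sup_right
    · exact sup_le (component_le_layer hC) (component_le_layer hC')
  -- `O_2 = 1`
  have hpc : Cfsg.pCore 2 Z = ⊥ := by
    by_contra hcon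
    have hpg := Lib.Cores.pCore_isPGroup (G := Z) 2
    obtain ⟨t, ht, hto⟩ : ∃ t ∈ Cfsg.pCore 2 Z, orderOf t = 2 := by
      have h3 : 2 ∣ Nat.card (Cfsg.pCore 2 Z) := by
        obtain ⟨n, hn⟩ := IsPGroup.iff_card.1 hpg
        rcases Nat.eq_zero_or_pos n with rfl | hn'
        · rw [pow_zero] at hn
          exact absurd (Subgroup.eq_bot_of_card_eq _ hn) hcon
        · rw [hn]
          exact dvd_pow_self 2 (by omega)
      obtain ⟨t, ht⟩ := exists_prime_orderOf_dvd_card' 2 h3
      exact ⟨t, t.2, by rw [Subgroup.orderOf_coe, ht]⟩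
    have htc := AbStruct.pCore_le_centralizer_layer hO ht
    obtain ⟨x, hx, hxo⟩ := exists_order S hR 3
    obtain ⟨y, hy, hyo⟩ := exists_order S hR' 4
    have c1 : Commute t x := (mem_centralizer_iff.1 htc x (component_le_layer hC hx)).symm
    have c2 : Commute t y := (mem_centralizer_iff.1 htc y (component_le_layer hC' hy)).symm
    have c3 : Commute x y := (mem_centralizer_iff.1 (comm_of_ne hC hC' hne hx) y hy).symm
    have h4 := orderOf_mul3 c1 c2 c3 hto hxo hyo
      ((Nat.coprime_primes Nat.prime_two (S.prime 3)).2 (S.ne_two 3).symm)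
      ((Nat.coprime_primes Nat.prime_two (S.prime 4)).2 (S.ne_two 4).symm)
      ((Nat.coprime_primes (S.prime 3) (S.prime 4)).2 (S.ne (by decide)))
    refine hcl.two (t * x * y) (σ 3) (σ 4) (S.prime 3) (S.prime 4) (S.cls 3) (S.cls 4) ?_ ?_ ?_
    · rw [h4]; exact Dvd.intro _ (by ring : σ 3 * (2 * σ 4) = _)
    · rw [h4]; exact Dvd.intro_left _ rfl
    · rw [h4]; exact Dvd.intro _ (by ring : 2 * (σ 3 * σ 4) = _)
  have hgf : Cfsg.generalizedFittingSubgroup Z = C ⊔ C' := by
    rw [AbStruct.genFitting_eq hO, hpc, bot_sup_eq, hlayer]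
  have hodd : Odd (C ⊔ C').index := by
    rw [← hgf]
    exact AbStruct.odd_index hO hT
  have hFn : (C ⊔ C').Normal := by
    rw [← hlayer]
    exact LayerBasic.layer_normal Z
  have hcomm := comm_of_ne hC hC' hne
  have hcomm' := comm_of_ne hC' hC hne.symm
  -- normality
  have hnorm : ∀ {C C' : Subgroup Z}, Cfsg.IsComponent C → Cfsg.IsComponent C' → C ≠ C' →
      (∀ C'' : Subgroup Z, Cfsg.IsComponent C'' → C'' = C ∨ C'' = C') → Odd (C ⊔ C').index → (C ⊔ C').Normal →
      C.Normal := by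
    intro C C' hC hC' hne hall hodd hFn
    have hmm : ∀ (a b : Z) (H : Subgroup Z), H.map (MulAut.conj (a * b)).toMonoidHom =
        (H.map (MulAut.conj b).toMonoidHom).map (MulAut.conj a).toMonoidHom := by
      intro a b H
      rw [map_map]
      congr 1
      ext x
      simp [MulAut.conj_apply, mul_assoc]
    have hinj : ∀ (a : Z) {H H' : Subgroup Z}, H.map (MulAut.conj a).toMonoidHom =
        H'.map (MulAut.conj a).toMonoidHom → H = H' := by
      intro a H H' h
      exact map_injective (MulAut.conj a).injective h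
    have hkey : ∀ z : Z, C.map (MulAut.conj z).toMonoidHom = C := by
      intro z
      by_contra hz
      have h1 : C.map (MulAut.conj z).toMonoidHom = C' := (hall _ (isComponent_conj z hC)).resolve_left hz
      have h2 : C'.map (MulAut.conj z).toMonoidHom = C := by
        refine (hall _ (isComponent_conj z hC')).resolve_right fun h3 => hne ?_
        exact hinj z (h1.trans h3.symm)
      have hev : ∀ k : ℕ, C.map (MulAut.conj (z ^ (2 * k))).toMonoidHom = C := by
        intro k
        induction k with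
        | zero =>
          rw [mul_zero, pow_zero]
          ext x
          simp
        | succ k ih =>
          have : z ^ (2 * (k + 1)) = z * (z * z ^ (2 * k)) := by
            rw [← pow_succ', ← pow_succ']
            congr 1
          rw [this, hmm, hmm, ih, h1, h2]
      obtain ⟨k, hk⟩ := hodd
      have h4 : z ^ (2 * k + 1) ∈ C ⊔ C' := by
        rw [← hk]
        exact pow_index_mem _ z
      have h5 : C.map (MulAut.conj (z ^ (2 * k + 1))).toMonoidHom = C' := by
        rw [pow_succ', hmm, hev, h1]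
      have h6 : C ⊔ C' ≤ normalizer (C : Set Z) := by
        refine sup_le le_normalizer ?_
        exact (comm_of_ne hC' hC hne.symm).trans (centralizer_le_normalizer _)
      have h7 : C.map (MulAut.conj (z ^ (2 * k + 1))).toMonoidHom = C := by
        have h8 := mem_normalizer_iff.1 (h6 h4)
        ext x
        constructor
        · rintro ⟨y, hy, rfl⟩
          exact (h8 y).1 hy
        · intro hx
          refine ⟨(z ^ (2 * k + 1))⁻¹ * x * z ^ (2 * k + 1), ?_, ?_⟩
          · rw [SetLike.mem_coe, h8]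
            convert hx using 1
            group
          · show z ^ (2 * k + 1) * ((z ^ (2 * k + 1))⁻¹ * x * z ^ (2 * k + 1)) * (z ^ (2 * k + 1))⁻¹ = x
            group
      exact hne (h7.symm.trans h5)
    refine ⟨fun x hx z => ?_⟩
    rw [← hkey z]
    exact ⟨x, hx, rfl⟩
  refine ⟨hnorm hC hC' hne hall hodd hFn, hnorm hC' hC hne.symm (fun C'' h => (hall C'' h).symm)
    (by rw [sup_comm]; exact hodd) (by rw [sup_comm]; exact hFn), hR, hR', hcomm,
    AbStruct.inf_eq_bot_of_ne hO hT hC hC' hne, ?_, hodd⟩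
  have h1 := TwoFusion.FStarControl.centralizer_genFitting_le_fitting (H := Z)
  rw [BalanceAux.fitting_eq_pCore 2 hO, hpc, hgf] at h1
  exact le_bot_iff.1 h1

end str

theorem two_dvd_reeCard (m : ℕ) : 2 ∣ reeCard m := by
  unfold reeCard
  refine Dvd.dvd.mul_left ?_ _
  have h1 : 3 ^ (2 * m + 1) % 2 = 1 := by rw [Nat.pow_mod]; norm_num
  omega

end SubG

open SubG

/-- from a subgroup to the group -/
theorem exists_RR {X : Type u} [Group X] [Finite X] (S : Sig m σ) (hcl : Cl m X) {M : Subgroup X}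
    {K L : Subgroup (M ⧸ Cfsg.pPrimeCore 2 M)} (h : RR m (M ⧸ Cfsg.pPrimeCore 2 M) K L) :
    ∃ K' L', RR m (X ⧸ Cfsg.pPrimeCore 2 X) K' L' := by
  have hO : Cfsg.pPrimeCore 2 (X ⧸ Cfsg.pPrimeCore 2 X) = ⊥ := Lib.Cores.pPrimeCore_quotient_pPrimeCore 2
  have hclZ : Cl m (X ⧸ Cfsg.pPrimeCore 2 X) := hcl.quotient _
  obtain ⟨T⟩ : Nonempty (Sylow 2 (X ⧸ Cfsg.pPrimeCore 2 X)) := inferInstance
  have hT := hclZ.sylow_comm T.2
  obtain ⟨φ₀, hφ₀⟩ : ∃ φ₀ : M →* X ⧸ Cfsg.pPrimeCore 2 X,
    φ₀ = (QuotientGroup.mk' (Cfsg.pPrimeCore 2 X)).comp M.subtype := ⟨_, rfl⟩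
  obtain ⟨g₀, hg₀⟩ : ∃ g₀ : M →* M ⧸ Cfsg.pPrimeCore 2 M, g₀ = QuotientGroup.mk' (Cfsg.pPrimeCore 2 M) := ⟨_, rfl⟩
  have hg₀s : Function.Surjective g₀ := by rw [hg₀]; exact QuotientGroup.mk'_surjective _
  have hker₀ : φ₀.ker ≤ g₀.ker := by
    rw [hg₀, QuotientGroup.ker_mk']
    refine Lib.Cores.le_pPrimeCore inferInstance ?_
    have h1 : φ₀.ker = (Cfsg.pPrimeCore 2 X).subgroupOf M := by
      rw [hφ₀, ← MonoidHom.comap_ker, QuotientGroup.ker_mk']
      rfl
    rw [h1]
    refine (Lib.Cores.pPrimeCore_coprime (G := X) 2).coprime_dvd_left ?_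
    have h2 := card_dvd_of_injective ((Cfsg.pPrimeCore 2 X).subtype.comp
      (MonoidHom.id _)) (by exact (Cfsg.pPrimeCore 2 X).subtype_injective)
    exact card_dvd_of_injective
      ((M.subtype.comp ((Cfsg.pPrimeCore 2 X).subgroupOf M).subtype).codRestrict (Cfsg.pPrimeCore 2 X)
        (fun x => mem_subgroupOf.1 x.2)) (fun x y hxy => by
          have h3 := congrArg Subtype.val hxy
          exact Subtype.ext (Subtype.ext h3))
  have hFn : (Cfsg.generalizedFittingSubgroup (X ⧸ Cfsg.pPrimeCore 2 X)).Normal := by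
    rw [AbStruct.genFitting_eq hO]
    have h1 : (Cfsg.layer (X ⧸ Cfsg.pPrimeCore 2 X)).Normal := LayerBasic.layer_normal _
    infer_instance
  set F := Cfsg.generalizedFittingSubgroup (X ⧸ Cfsg.pPrimeCore 2 X) with hFd
  obtain ⟨D, hD⟩ : ∃ D : Subgroup M, D = F.comap φ₀ := ⟨_, rfl⟩
  have hDn : D.Normal := by rw [hD]; infer_instance
  have hDodd : Odd D.index := by
    have h1 : D.index ∣ F.index := by
      rw [hD, index_comap]
      exact relIndex_dvd_index_of_normal F _
    exact Odd.of_dvd_nat (AbStruct.odd_index hO hT) h1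
  have hle : ∀ {K : Subgroup (M ⧸ Cfsg.pPrimeCore 2 M)}, IsRee m K → K ≤ D.map g₀ := by
    intro K hK
    have hKs := hK.simple
    have hn : (D.map g₀).Normal := hDn.map g₀ hg₀s
    have hn' : ((D.map g₀).subgroupOf K).Normal := inferInstance
    rcases hKs.eq_bot_or_eq_top_of_normal _ hn' with h1 | h1
    · exfalso
      have h2 : ((D.map g₀).subgroupOf K).index ∣ (D.map g₀).index := relIndex_dvd_index_of_normal _ _
      have h3 : (D.map g₀).index ∣ D.index := index_map_dvd D hg₀s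
      rw [h1, index_bot, hK.card] at h2
      have h4 := ((two_dvd_reeCard m).trans h2).trans h3
      exact (Nat.not_even_iff_odd.2 hDodd) (even_iff_two_dvd.2 h4)
    · rwa [subgroupOf_eq_top] at h1
  have hrange : (g₀.comp D.subtype).range = D.map g₀ := by
    rw [MonoidHom.range_comp, range_subtype]
  obtain ⟨C, C', hC, hC', hne, hR, hR'⟩ := exists_two (D := D) (φ := φ₀.comp D.subtype) (g := g₀.comp D.subtype)
    hO hclZ S
    (by
      intro x hx
      rw [MonoidHom.mem_ker, MonoidHom.comp_apply] at hx ⊢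
      exact hker₀ hx)
    (by
      rintro ⟨x, hx⟩
      rw [hD] at hx
      exact hx)
    h (by rw [hrange]; exact hle h.reeK) (by rw [hrange]; exact hle h.reeL)
  exact ⟨C, C', rr_of_two hO hclZ S hC hC' hne hR hR'⟩

end Cfsg.Agent.H389.RSq
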